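import Cfsg.Agent.Spor.Fi31671.S.D0

set_option autoImplicit false
set_option maxRecDepth 100000000
set_option Elab.async false

namespace Cfsg.Agent.Spor.Fi31671.S

theorem gr4 : sub M3 (U.growI W2 [1, 2, 3, 4, 5, 6, 7, 8, 7, 3, 2, 1, 0, 1, 2, 3, 4, 5, 6, 7, 3, 2, 1, 0, 4, 5, 7, 8, 3, 2, 1, 4, 5, 7, 3, 2] (Nat.shiftLeft 1 53)) = true := by decide +kernel

theorem sd6 : U.sends [19, 13, 11, 9, 7, 5, 15, 7, 9, 11, 13, 19] 0 53 = true := by decide +kernel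

theorem gr7 : sub (ones 31671) (U.growI ([19, 13, 11, 9, 7, 5, 15, 7, 9, 11, 13, 19] :: W2) [0, 2, 3, 4, 5, 6, 7, 8, 9, 8, 4, 3, 2, 1, 0, 2, 3, 4, 5, 6, 7, 8, 9, 8, 4, 3, 2, 1, 0, 2, 3, 4, 5, 6, 7, 8, 9, 8, 4, 3, 2, 1, 0, 2, 3, 4, 5, 8, 2] (Nat.shiftLeft 1 0)) = true := by decide +kernel

theorem cl9 : band (U.closedW W2 M3) (sub (Nat.shiftLeft 1 53) M3) = true := by decide +kernel

theorem sz10 : sizeOk 15 M3 3510 = true := by decide +kernel

theorem gr13 : sub M12 (U.growI W2 [6, 5, 4, 3, 2, 1, 0, 7, 8, 3, 2, 1, 4, 5, 6, 7, 3, 2, 1, 0, 4, 5, 6, 7, 8, 3, 2, 1, 0, 4, 5, 6, 7, 8, 3, 2, 1, 0, 4, 5, 7, 8, 3, 2, 1, 0, 4, 5, 6, 7, 8, 3, 2, 1, 4, 5] (Nat.shiftLeft 1 1)) = true := by decide +kernel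

theorem sd15 : U.sends [19] 0 1 = true := by decide +kernel

theorem gr16 : sub (ones 31671) (U.growI ([19] :: W2) [0, 7, 6, 5, 4, 3, 2, 1, 8, 9, 4, 3, 2, 5, 6, 7, 8, 4, 3, 2, 1, 0, 5, 6, 7, 8, 9, 4, 3, 2, 1, 0, 5, 6, 7, 8, 9, 4, 3, 2, 1, 0, 5, 6, 7, 8, 4, 3, 2, 1, 5, 6, 7, 8, 4, 3, 2] (Nat.shiftLeft 1 0)) = true := by decide +kernel

theorem cl18 : band (U.closedW W2 M12) (sub (Nat.shiftLeft 1 1) M12) = true := by decide +kernel

theorem sz19 : sizeOk 15 M12 28160 = true := by decide +kernel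

theorem ff21 : U.fixFrom 15 31671 1 = true := by decide +kernel

theorem ff22 : U.fixFrom 15 31671 3 = true := by decide +kernel

theorem ff23 : U.fixFrom 15 31671 5 = true := by decide +kernel

theorem ff24 : U.fixFrom 15 31671 7 = true := by decide +kernel

theorem ff25 : U.fixFrom 15 31671 9 = true := by decide +kernel

theorem ff26 : U.fixFrom 15 31671 11 = true := by decide +kernel

theorem ff27 : U.fixFrom 15 31671 13 = true := by decide +kernel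

theorem ff28 : U.fixFrom 15 31671 15 = true := by decide +kernel

theorem ff29 : U.fixFrom 15 31671 17 = true := by decide +kernel

theorem ff30 : U.fixFrom 15 31671 19 = true := by decide +kernel

end Cfsg.Agent.Spor.Fi31671.S
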